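import Mathlib

/-! The scheme of units of a monoid scheme. -/

set_option autoImplicit false
set_option linter.style.haveILetI false

universe v w u

open CategoryTheory MonoidalCategory CartesianMonoidalCategory MonObj AlgebraicGeometry Limits

noncomputable section

namespace Groth.Agent.UnitGrpLib

section General

variable {C : Type w} [Category.{v} C] [CartesianMonoidalCategory C] [HasPullbacks C]
variable (M : C) [MonObj M]

/-- Both products of the two projections. -/
abbrev both : M ⊗ M ⟶ M ⊗ M := lift (fst M M * snd M M) (snd M M * fst M M)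

/-- The pair of units. -/
abbrev ones : 𝟙_ C ⟶ M ⊗ M := lift 1 1

/-- The object of units: pairs multiplying to one in both orders. -/
abbrev unitsObj : C := pullback (both M) (ones M)

/-- The map to the monoid. -/
abbrev unitsIncl : unitsObj M ⟶ M := pullback.fst (both M) (ones M) ≫ fst M M

theorem units_mul {T : C} (g : T ⟶ unitsObj M) :
    (g ≫ unitsIncl M) * (g ≫ pullback.fst (both M) (ones M) ≫ snd M M) = 1 ∧
    (g ≫ pullback.fst (both M) (ones M) ≫ snd M M) * (g ≫ unitsIncl M) = 1 := by
  constructor
  · rw [← MonObj.comp_mul, ← MonObj.comp_mul,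
      show fst M M * snd M M = both M ≫ fst M M from (lift_fst _ _).symm,
      pullback.condition_assoc, lift_fst, MonObj.comp_one, MonObj.comp_one]
  · rw [← MonObj.comp_mul, ← MonObj.comp_mul,
      show snd M M * fst M M = both M ≫ snd M M from (lift_snd _ _).symm,
      pullback.condition_assoc, lift_snd, MonObj.comp_one, MonObj.comp_one]

theorem factors_iff {T : C} (m : T ⟶ M) :
    (∃ g : T ⟶ unitsObj M, g ≫ unitsIncl M = m) ↔ IsUnit m := by
  constructor
  · rintro ⟨g, rfl⟩
    exact ⟨⟨_, _, (units_mul M g).1, (units_mul M g).2⟩, rfl⟩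
  · rintro ⟨⟨a, b, h1, h2⟩, rfl⟩
    refine ⟨pullback.lift (lift a b) (toUnit T) ?_, ?_⟩
    · apply CartesianMonoidalCategory.hom_ext
      · rw [Category.assoc, Category.assoc, lift_fst, lift_fst, MonObj.comp_mul, lift_fst, lift_snd,
          MonObj.comp_one, h1]
      · rw [Category.assoc, Category.assoc, lift_snd, lift_snd, MonObj.comp_mul, lift_fst, lift_snd,
          MonObj.comp_one, h2]
    · rw [pullback.lift_fst_assoc, lift_fst]

theorem mono_unitsIncl : Mono (unitsIncl M) := by
  refine ⟨fun g h e => ?_⟩
  obtain ⟨h1, -⟩ := units_mul M h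
  obtain ⟨-, g2⟩ := units_mul M g
  rw [e] at g2
  have e2 := left_inv_eq_right_inv g2 h1
  apply pullback.hom_ext
  · apply CartesianMonoidalCategory.hom_ext
    · rw [Category.assoc, Category.assoc]; exact e
    · rw [Category.assoc, Category.assoc]; exact e2
  · exact toUnit_unique _ _

/-- Any monomorphism with the same factorization property is isomorphic to the object of units. -/
theorem exists_iso {G : C} (i : G ⟶ M) [Mono i]
    (hi : ∀ (T : C) (m : T ⟶ M), (∃ g : T ⟶ G, g ≫ i = m) ↔ IsUnit m) :
    ∃ e : G ≅ unitsObj M, e.hom ≫ unitsIncl M = i := by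
  haveI := mono_unitsIncl M
  obtain ⟨a, ha⟩ := (factors_iff M i).2 ((hi G i).1 ⟨𝟙 _, Category.id_comp _⟩)
  obtain ⟨b, hb⟩ := (hi _ (unitsIncl M)).2 ((factors_iff M _).1 ⟨𝟙 _, Category.id_comp _⟩)
  exact ⟨⟨a, b, by rw [← cancel_mono i, Category.assoc, hb, ha, Category.id_comp],
    by rw [← cancel_mono (unitsIncl M), Category.assoc, ha, hb, Category.id_comp]⟩, ha⟩

end General

variable {S : Scheme.{u}} (M : Over S) [MonObj M]

theorem isPullback_left :
    IsPullback (pullback.fst (both M) (ones M)).left (pullback.snd (both M) (ones M)).left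
      (both M).left (ones M).left :=
  (IsPullback.of_hasPullback (both M) (ones M)).map (Over.forget S)

theorem isAffine_unitsObj [IsAffine S] [IsAffine M.left] : IsAffine (unitsObj M).left := by
  haveI : IsAffine (M ⊗ M).left := inferInstanceAs (IsAffine (pullback M.hom M.hom))
  haveI : IsAffine (𝟙_ (Over S)).left := inferInstanceAs (IsAffine S)
  exact .of_isIso (isPullback_left M).isoPullback.hom

theorem finiteType_unitsObj [IsLocallyNoetherian S] [LocallyOfFiniteType M.hom] [QuasiCompact M.hom] :
    LocallyOfFiniteType (unitsObj M).hom ∧ QuasiCompact (unitsObj M).hom := by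
  haveI : LocallyOfFiniteType (M ⊗ M).hom :=
    inferInstanceAs (LocallyOfFiniteType (pullback.fst M.hom M.hom ≫ M.hom))
  haveI : QuasiCompact (M ⊗ M).hom :=
    inferInstanceAs (QuasiCompact (pullback.fst M.hom M.hom ≫ M.hom))
  haveI : IsLocallyNoetherian (M ⊗ M).left := LocallyOfFiniteType.isLocallyNoetherian (M ⊗ M).hom
  haveI : QuasiSeparated (M ⊗ M).hom := inferInstance
  haveI : LocallyOfFiniteType ((ones M).left ≫ (M ⊗ M).hom) := by
    rw [Over.w (ones M)]; exact inferInstanceAs (LocallyOfFiniteType (𝟙 S))
  haveI : QuasiCompact ((ones M).left ≫ (M ⊗ M).hom) := by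
    rw [Over.w (ones M)]; exact inferInstanceAs (QuasiCompact (𝟙 S))
  haveI : LocallyOfFiniteType (ones M).left := locallyOfFiniteType_of_comp _ (M ⊗ M).hom
  haveI : QuasiCompact (ones M).left := QuasiCompact.of_comp _ (M ⊗ M).hom
  haveI : LocallyOfFiniteType (pullback.fst (both M) (ones M)).left :=
    MorphismProperty.of_isPullback (P := @LocallyOfFiniteType) (isPullback_left M).flip inferInstance
  haveI : QuasiCompact (pullback.fst (both M) (ones M)).left :=
    MorphismProperty.of_isPullback (P := @QuasiCompact) (isPullback_left M).flip inferInstance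
  rw [← Over.w (pullback.fst (both M) (ones M))]
  exact ⟨inferInstance, inferInstance⟩

end Groth.Agent.UnitGrpLib
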